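import Groth.Agent.ZarPicLib.Pic
import Groth.Agent.C1Cap.PullGen
import Groth.Agent.W7Rees.Main
import Groth.Agent.W7Alg.Closed
import Groth.Agent.ExpSeq.Homeo

/-!
# Invertible modules trivial on all thickenings of the closed fibre of a proper scheme over a local ring
-/

set_option autoImplicit false
set_option backward.isDefEq.respectTransparency false
set_option backward.isDefEq.respectTransparency.types false
set_option linter.style.haveILetI false
set_option maxHeartbeats 1000000

universe u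

open CategoryTheory CategoryTheory.Limits AlgebraicGeometry TopologicalSpace Opposite
open Groth.Agent.QC (res resO res_res res_smul app_res resO_resO)
open ProjMor (eta eta_res eta_smul)
open TMul (IsGen)

noncomputable section

namespace Groth.Agent.ThickPic

variable {A : Type u} [CommRing A] {X : Scheme.{u}} [X.Over (Spec (CommRingCat.of A))]

/-- multiples of a section lie in `JF` -/
theorem smul_mem_smul_top {F : X.Modules} {V : X.Opens} (J : Ideal A) {d : Γ(X, V)}
    (hd : d ∈ J.map (W7Cech.secRing A V)) (e : Γ(F, V)) :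
    (show ((W7Cech.secA A V).obj F : Type u) from (d • e : Γ(F, V))) ∈
      J • (⊤ : Submodule A ((W7Cech.secA A V).obj F : Type u)) := by
  refine Submodule.span_induction (p := fun d _ => ∀ e : Γ(F, V), (show ((W7Cech.secA A V).obj F : Type u) from (d • e : Γ(F, V))) ∈
      J • (⊤ : Submodule A ((W7Cech.secA A V).obj F : Type u))) ?_ ?_ ?_ ?_ hd e
  · rintro _ ⟨a, ha, rfl⟩ e
    exact Submodule.smul_mem_smul ha (Submodule.mem_top (x := (show ((W7Cech.secA A V).obj F : Type u) from e)))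
  · intro e
    rw [zero_smul]
    exact Submodule.zero_mem _
  · intro x y _ _ hx hy e
    rw [add_smul]
    exact Submodule.add_mem _ (hx e) (hy e)
  · intro r x _ hx e
    rw [show (r • x) • e = x • r • e by rw [smul_eq_mul, _root_.mul_comm, mul_smul]]
    exact hx (r • e)

/-- coefficients of sections of `JF` on a generator -/
theorem mem_map_of_smul_mem {F : X.Modules} {V : X.Opens} {J : Ideal A} {e : Γ(F, V)} (he : IsGen e) {d : Γ(X, V)}
    (hd : (show ((W7Cech.secA A V).obj F : Type u) from (d • e : Γ(F, V))) ∈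
      J • (⊤ : Submodule A ((W7Cech.secA A V).obj F : Type u))) : d ∈ J.map (W7Cech.secRing A V) := by
  have key : ∀ w : ((W7Cech.secA A V).obj F : Type u), w ∈ J • (⊤ : Submodule A ((W7Cech.secA A V).obj F : Type u)) →
      ∃ c ∈ J.map (W7Cech.secRing A V), (c • e : Γ(F, V)) = w := fun w hw => by
    refine Submodule.smul_induction_on hw (fun a ha y _ => ?_) fun y z ⟨c, hc, hcy⟩ ⟨c', hc', hcz⟩ => ?_
    · obtain ⟨r, hr⟩ := (he V le_rfl).2 (show Γ(F, V) from y)
      simp only [Groth.Agent.QC.res_self] at hr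
      refine ⟨W7Cech.secRing A V a * r, Ideal.mul_mem_right _ _ (Ideal.mem_map_of_mem _ ha), ?_⟩
      rw [mul_smul, hr]
      rfl
    · exact ⟨c + c', Ideal.add_mem _ hc hc', by rw [add_smul, hcy, hcz]⟩
  obtain ⟨c, hc, h⟩ := key _ hd
  have : c = d := (he V le_rfl).1 (by simpa only [Groth.Agent.QC.res_self] using h)
  rwa [← this]

/-- the functions vanishing on the closed fibre do not generate at its points -/
theorem map_le_comap_maximal {I : Ideal A} {V : X.Opens} {x : X} (hx : x ∈ V)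
    (h : ∀ a ∈ I, (X ↘ Spec (CommRingCat.of A)).base x ∉ PrimeSpectrum.basicOpen a) :
    I.map (W7Cech.secRing A V) ≤
      (IsLocalRing.maximalIdeal (X.presheaf.stalk x)).comap (X.presheaf.germ V x hx).hom := by
  rw [Ideal.map_le_iff_le_comap]
  intro a ha
  rw [Ideal.mem_comap, Ideal.mem_comap, IsLocalRing.mem_maximalIdeal, mem_nonunits_iff]
  intro hu
  let f := X ↘ Spec (CommRingCat.of A)
  have hm : x ∈ X.basicOpen (W7Cech.secRing A V a) := (Scheme.mem_basicOpen _ _ x hx).2 hu
  rw [show W7Cech.secRing A V a = resO X le_top (Coh.toGlobal f a) from rfl] at hm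
  have h1 : x ∈ X.basicOpen (Coh.toGlobal f a) := ((Scheme.basicOpen_res _ _ _).le hm).2
  have h3 : X.basicOpen (Coh.toGlobal f a) = f ⁻¹ᵁ PrimeSpectrum.basicOpen a := by
    rw [← basicOpen_eq_of_affine (R := CommRingCat.of A) a, Scheme.preimage_basicOpen]
    rfl
  rw [h3] at h1
  exact h a ha h1

/-- the quotient map on global sections -/
theorem exists_lift_section [IsNoetherianRing A] [IsProper (X ↘ Spec (CommRingCat.of A))] (I : Ideal A)
    {F : X.Modules} (hF : Coh.IsCoh F) :
    ∃ m : ℕ, ∀ σ : Γ(cokernel (Formal.smulFamily (I ^ (m + 1)) F), ⊤), ∃ s : Γ(F, ⊤),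
      (W7Rees.qπ F (I ^ 1)).app ⊤ s =
        (cokernel.desc (Formal.smulFamily (I ^ (m + 1)) F) (W7Rees.qπ F (I ^ 1))
          (Formal.smulFamily_π_of_le (Ideal.pow_le_pow_right (Nat.le_add_left 1 m)) F)).app ⊤ σ := by
  obtain ⟨c, hc⟩ := W7Rees.exists_range_subset I hF 0
  refine ⟨c, fun σ => ?_⟩
  let φ := cokernel.desc (Formal.smulFamily (I ^ (c + 1)) F) (W7Rees.qπ F (I ^ 1))
    (Formal.smulFamily_π_of_le (Ideal.pow_le_pow_right (Nat.le_add_left 1 c)) F)
  obtain ⟨s, hs⟩ := hc 1 (c + 1) (by omega) φ (cokernel.π_desc _ _ _) ⟨(ExpSeq.h0 _).symm σ, rfl⟩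
  refine ⟨ExpSeq.h0 (Coh.toAb F) s, ?_⟩
  have h := congrArg (ExpSeq.h0 (Coh.toAb (cokernel (Formal.smulFamily (I ^ 1) F)))) hs
  have h1 := ExpSeq.h0_comp ((SheafOfModules.toSheaf X.ringCatSheaf).map (W7Rees.qπ F (I ^ 1))) s
  have h2 := ExpSeq.h0_comp ((SheafOfModules.toSheaf X.ringCatSheaf).map φ) ((ExpSeq.h0 _).symm σ)
  rw [AddEquiv.apply_symm_apply] at h2
  exact h1.symm.trans (h.trans h2)

/-- **an invertible module trivial on all thickenings of the closed fibre is trivial** -/
theorem nonempty_iso_of_thick [IsNoetherianRing A] [IsLocalRing A] [IsProper (X ↘ Spec (CommRingCat.of A))]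
    (I : Ideal A) (hI : I ≤ IsLocalRing.maximalIdeal A) {L : X.Modules} (hL : PicF.IsInvertible L)
    (hLc : Coh.IsCoh L)
    (htriv : ∀ n : ℕ, Nonempty ((Scheme.Modules.pullback (CohB1.thickι (X ↘ Spec (CommRingCat.of A)) I n)).obj L ≅
      Coh.structureModule (CohB1.thick (X ↘ Spec (CommRingCat.of A)) I n))) :
    Nonempty (L ≅ Coh.structureModule X) := by
  classical
  let f := X ↘ Spec (CommRingCat.of A)
  obtain ⟨m, hm⟩ := exists_lift_section I hLc
  let i := CohB1.thickι f I m
  haveI : IsClosedImmersion (CohB1.specQuot I m) := IsClosedImmersion.spec_of_surjective _ Ideal.Quotient.mk_surjective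
  haveI : IsClosedImmersion i := MorphismProperty.pullback_fst _ _ inferInstance
  obtain ⟨ψ⟩ := htriv m
  let t : Γ((Scheme.Modules.pullback i).obj L, ⊤) := ψ.symm.hom.app ⊤ (1 : Γ(CohB1.thick f I m, ⊤))
  have ht : IsGen t := ZarPicLib.isGen_iso ψ.symm (TMul.isGen_one ⊤)
  have hker : ∀ (V : X.Opens) (hV : IsAffineOpen V) (d : Γ(X, V)), i.app V d = 0 →
      d ∈ (I ^ (m + 1)).map (W7Cech.secRing A V) := fun V hV d hd => by
    rw [Ideal.map_pow, ← W7Alg.ker_thickι I f m ⟨V, hV⟩, Scheme.Hom.ker_apply, RingHom.mem_ker]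
    exact hd
  -- local descriptions
  have hloc : ∀ x : X, ∃ (V : X.Opens) (e : Γ(L, V)) (v : Γ(X, V)), IsAffineOpen V ∧ x ∈ V ∧ IsGen e ∧
      eta i L V (v • e) = res _ le_top t := fun x => by
    obtain ⟨U, e, hxU, he⟩ := TMul.exists_isGen hL x
    obtain ⟨V, hV, hxV, hVU⟩ := exists_isAffineOpen_mem_and_subset (X := X) (x := x) (U := U) hxU
    obtain ⟨r, hr⟩ := ((C1Cap.isGen_eta i (he.res hVU)) (i ⁻¹ᵁ V) le_rfl).2 (res _ le_top t)
    simp only [Groth.Agent.QC.res_self] at hr
    obtain ⟨v, hv⟩ := i.app_surjective V hV r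
    exact ⟨V, res L hVU e, v, hV, hxV, he.res hVU, by rw [eta_smul, hv, hr]⟩
  choose V e v hV hxV he hve using hloc
  let C := cokernel (Formal.smulFamily (I ^ (m + 1)) L)
  let π : L ⟶ C := cokernel.π _
  obtain ⟨σ, hσ, -⟩ := TopCat.Sheaf.existsUnique_gluing' (Groth.Agent.QC.abSheaf C) V ⊤
    (fun x => homOfLE le_top) (fun x _ => Opens.mem_iSup.mpr ⟨x, hxV x⟩) (fun x => π.app (V x) (v x • e x))
    (fun a b => by
      change res C (inf_le_left : V a ⊓ V b ≤ V a) _ = res C (inf_le_right : V a ⊓ V b ≤ V b) _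
      refine TopCat.Presheaf.IsSheaf.section_ext (Groth.Agent.QC.abSheaf C).2 fun z hz => ?_
      obtain ⟨O, hO, hzO, hle'⟩ := exists_isAffineOpen_mem_and_subset (X := X) (x := z) (U := V a ⊓ V b) hz
      have hle : O ≤ V a ⊓ V b := hle'
      refine ⟨O, hle, hzO, ?_⟩
      change res C hle (res C _ _) = res C hle (res C _ _)
      have hea : O ≤ V a := hle.trans inf_le_left
      have heb : O ≤ V b := hle.trans inf_le_right
      rw [res_res, res_res, app_res π hea, app_res π heb, ← sub_eq_zero, ← map_sub]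
      refine (W7Rees.modQuot_eq_zero_iff L _ hLc.1 hO _).2 ?_
      obtain ⟨d, hd⟩ := ((he b).res heb O le_rfl).2 (res L hea (v a • e a) - res L heb (v b • e b))
      simp only [Groth.Agent.QC.res_self] at hd
      rw [← hd]
      refine smul_mem_smul_top _ (hker O hO d ?_) _
      have h := congrArg (eta i L O) hd
      rw [eta_smul, map_sub, ← eta_res i L hea (v a • e a), ← eta_res i L heb (v b • e b), hve, hve, res_res, res_res, sub_self] at h
      refine ((C1Cap.isGen_eta i ((he b).res heb)) (i ⁻¹ᵁ O) le_rfl).1 ?_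
      simp only [Groth.Agent.QC.res_self, zero_smul]
      exact h)
  obtain ⟨s, hs⟩ := hm σ
  -- `s` generates near the closed fibre
  have hgen : ∀ x : X, f.base x = IsLocalRing.closedPoint A →
      ∃ (W : X.Opens), x ∈ W ∧ IsGen (res L (le_top : W ≤ ⊤) s) := fun x hx => by
    have hxI : ∀ a ∈ I, f.base x ∉ PrimeSpectrum.basicOpen a := fun a ha => by
      rw [PrimeSpectrum.mem_basicOpen, not_not, hx]
      exact hI ha
    obtain ⟨c, hc⟩ := ((he x) (V x) le_rfl).2 (res L (le_top : V x ≤ ⊤) s)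
    simp only [Groth.Agent.QC.res_self] at hc
    have hz : (W7Rees.qπ L (I ^ 1)).app (V x) ((c - v x) • e x) = 0 := by
      rw [sub_smul, map_sub, hc, sub_eq_zero, ← app_res, hs, app_res]
      rw [show res C (le_top : V x ≤ ⊤) σ = π.app (V x) (v x • e x) from hσ x]
      exact congr(($(cokernel.π_desc (Formal.smulFamily (I ^ (m + 1)) L) (W7Rees.qπ L (I ^ 1))
        (Formal.smulFamily_π_of_le (Ideal.pow_le_pow_right (Nat.le_add_left 1 m)) L))).app (V x) (v x • e x))
    have hcv := mem_map_of_smul_mem (he x) ((W7Rees.modQuot_eq_zero_iff L _ hLc.1 (hV x) _).1 hz)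
    rw [pow_one] at hcv
    obtain ⟨r', hr'⟩ := ((ht.res (le_top : i ⁻¹ᵁ V x ≤ ⊤)) (i ⁻¹ᵁ V x) le_rfl).2 (eta i L (V x) (e x))
    simp only [Groth.Agent.QC.res_self] at hr'
    obtain ⟨v', hv'⟩ := i.app_surjective (V x) (hV x) r'
    have hvv : i.app (V x) (v' * v x - 1) = 0 := by
      refine ((C1Cap.isGen_eta i (he x)) (i ⁻¹ᵁ V x) le_rfl).1 ?_
      simp only [Groth.Agent.QC.res_self, zero_smul]
      rw [map_sub, map_mul, map_one, sub_smul, one_smul, mul_smul, ← eta_smul i L (v x) (e x), hve, hv', hr', sub_self]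
    let P := (IsLocalRing.maximalIdeal (X.presheaf.stalk x)).comap (X.presheaf.germ (V x) x (hxV x)).hom
    have hP : I.map (W7Cech.secRing A (V x)) ≤ P := map_le_comap_maximal (hxV x) hxI
    have h1 : v' * v x - 1 ∈ P :=
      hP (Ideal.map_mono (Ideal.pow_le_self (Nat.succ_ne_zero m)) (hker _ (hV x) _ hvv))
    have h2 : v' * (c - v x) ∈ P := P.mul_mem_left _ (hP hcv)
    have hcP : c ∉ P := fun hcP => by
      have h3 : (1 : Γ(X, V x)) ∈ P := by
        have := P.sub_mem (P.sub_mem (P.mul_mem_left v' hcP) h2) h1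
        convert this using 1
        ring
      rw [Ideal.mem_comap, map_one, IsLocalRing.mem_maximalIdeal, mem_nonunits_iff] at h3
      exact h3 isUnit_one
    have hxc : x ∈ X.basicOpen c := by
      rw [Scheme.mem_basicOpen _ c x (hxV x)]
      by_contra hu
      exact hcP hu
    refine ⟨X.basicOpen c, hxc, ?_⟩
    have hle := X.basicOpen_le c
    rw [← res_res L hle (le_top : V x ≤ ⊤), ← hc, res_smul]
    exact UfdExtend.isGen_unit_smul ((he x).res hle) (X.toRingedSpace.isUnit_res_basicOpen c)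
  -- everywhere
  let T : Set X := {x | ∀ W : X.Opens, x ∈ W → ¬ IsGen (res L (le_top : W ≤ ⊤) s)}
  have hT : IsClosed T := by
    rw [← isOpen_compl_iff, isOpen_iff_forall_mem_open]
    intro x hx
    simp only [T, Set.mem_compl_iff, Set.mem_ofPred_eq, not_forall, not_not] at hx
    obtain ⟨W, hxW, hW⟩ := hx
    exact ⟨W, fun y hy h => h W hy hW, W.2, hxW⟩
  have hT0 : T = ∅ := by
    by_contra hne
    obtain ⟨x, hx⟩ := Set.nonempty_iff_ne_empty.2 hne
    have hcl : IsClosed (f.base '' T) := f.isClosedMap _ hT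
    obtain ⟨y, hyT, hy⟩ := (IsLocalRing.specializes_closedPoint (f.base x)).mem_closed hcl ⟨x, hx, rfl⟩
    obtain ⟨W, hyW, hW⟩ := hgen y hy
    exact hyT W hyW hW
  refine ZarPicLib.nonempty_iso_of_gen (v := s) (UfdExtend.isGen_of_locally fun x _ => ?_)
  have hx : x ∉ T := by rw [hT0]; exact Set.notMem_empty x
  simp only [T, Set.mem_ofPred_eq, not_forall, not_not] at hx
  obtain ⟨W, hxW, hW⟩ := hx
  exact ⟨W, le_top, hxW, hW⟩

end Groth.Agent.ThickPic
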