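import Groth.Agent.ExpSeq.Pic

/-!
# Kernels of restriction of units along homeomorphic closed subschemes
-/

set_option autoImplicit false
set_option backward.isDefEq.respectTransparency false
set_option backward.isDefEq.respectTransparency.types false
set_option linter.style.haveILetI false
set_option maxHeartbeats 1000000

universe u

open CategoryTheory CategoryTheory.Limits CategoryTheory.Abelian AlgebraicGeometry TopologicalSpace Opposite
open Groth.Agent.ZarPicLib (sec rr oval oval_rr oval_add oval_injective exists_oval app_rr)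
open Groth.Agent.QC (resO resO_resO)
open PicGrp

noncomputable section

namespace Groth.Agent.ThickPic

/-- the chosen identification `Pic ≅ H¹(O^×)` -/
def picH1 (Y : Scheme.{u}) [Law Y] : Additive (PicLoc.PicSet Y) ≃+ CohTop.H (UnitsSh.unitsAb Y) 1 :=
  (ExpSeq.exists_picEquiv (X := Y) (ZarPicLib.δ (UnitsSh.unitsAb Y))
    (ZarPicLib.δ_surjective (UnitsSh.unitsAb Y)) (ZarPicLib.δ_eq_zero_iff (UnitsSh.unitsAb Y))).choose

theorem exists_picEquiv_compat {Y R : Scheme.{u}} [Law Y] [Law R] (j : R ⟶ Y) (hj : IsHomeomorph j.base) (hm : PullMul j) :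
    ∃ ΨR : Additive (PicLoc.PicSet R) ≃+ CohTop.H ((CohTop.push j.base).obj (UnitsSh.unitsAb R)) 1,
      ∀ c : PicLoc.PicSet Y, Ext.comp (picH1 Y (Additive.ofMul c)) (Ext.mk₀ (UnitsSh.comap j)) (add_zero 1) =
        ΨR (Additive.ofMul (pullHom j hm c)) := by
  obtain ⟨ΨR, hR⟩ := ExpSeq.exists_picEquiv (X := R) (ExpSeq.dlPush hj (UnitsSh.unitsAb R))
    (ExpSeq.dlPush_surjective hj (UnitsSh.unitsAb R)) (ExpSeq.dlPush_eq_zero_iff hj (UnitsSh.unitsAb R))
  have hY := (ExpSeq.exists_picEquiv (X := Y) (ZarPicLib.δ (UnitsSh.unitsAb Y))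
    (ZarPicLib.δ_surjective (UnitsSh.unitsAb Y)) (ZarPicLib.δ_eq_zero_iff (UnitsSh.unitsAb Y))).choose_spec
  obtain ⟨φ, hφ⟩ := ExpSeq.exists_lift_comap j
  refine ⟨ΨR, fun c => ?_⟩
  obtain ⟨L, hL, rfl⟩ := exists_eq_cls c
  obtain ⟨q, ⟨D⟩⟩ := ZarPicLib.exists_dat hL
  have e1 : picH1 Y (Additive.ofMul (cls L hL)) = ExpSeq.dl (SiteCoh.embedSeq_shortExact (UnitsSh.unitsAb Y)) q :=
    (hY L hL q ⟨D⟩).trans (DFunLike.congr_fun (ExpSeq.δ_eq_dl (UnitsSh.unitsAb Y)) q)
  have e2 := hR _ (PicLoc.isInvertible_pullback j hL) _ (ExpSeq.nonempty_dat_pullback j hj φ hφ D)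
  rw [e1, pullHom_cls, e2, ← hφ]
  exact ExpSeq.dl_naturality (SiteCoh.embedSeq_shortExact (UnitsSh.unitsAb Y))
    (T := (SiteCoh.embedSeq (UnitsSh.unitsAb R)).map (CohTop.push j.base))
    (ExpSeq.push_shortExact hj (SiteCoh.embedSeq_shortExact (UnitsSh.unitsAb R))) φ q

variable {Y R : Scheme.{u}} (j : R ⟶ Y) [IsClosedImmersion j] (hj : IsHomeomorph j.base)
  (hnil : ∀ (U : Y.Opens), IsAffineOpen U → ∀ z : Γ(Y, U), j.app U z = 0 → IsNilpotent z)

/-- the sequence of units of `Y` and of `R` -/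
abbrev kerSeq : ShortComplex (CohTop.Ab Y.toTopCat) :=
  ShortComplex.mk (kernel.ι (UnitsSh.comap j)) (UnitsSh.comap j) (kernel.condition _)

theorem oval_pU_comap {U : Y.Opens} (s : sec (UnitsSh.unitsAb Y) U) :
    ((UnitsSh.unitOfSect (show sec (UnitsSh.unitsAb R) (j ⁻¹ᵁ U) from (UnitsSh.comap j).hom.app (op U) s) :
      Γ(R, j ⁻¹ᵁ U)ˣ) : Γ(R, j ⁻¹ᵁ U)) = j.app U (oval s) := rfl

/-- a unit section restricts to zero iff its value restricts to one -/
theorem comap_eq_zero_iff {U : Y.Opens} (s : sec (UnitsSh.unitsAb Y) U) :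
    (UnitsSh.comap j).hom.app (op U) s = 0 ↔ j.app U (oval s) = 1 := by
  constructor
  · intro h
    rw [← oval_pU_comap, h]
    rfl
  · intro h
    have e : UnitsSh.unitOfSect (show sec (UnitsSh.unitsAb R) (j ⁻¹ᵁ U) from (UnitsSh.comap j).hom.app (op U) s) = 1 :=
      Units.ext ((oval_pU_comap j s).trans h)
    exact (UnitsSh.sectOfUnit_unitOfSect _).symm.trans ((congrArg UnitsSh.sectOfUnit e).trans rfl)

include hj hnil in
theorem kerSeq_shortExact : (kerSeq j).ShortExact := by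
  haveI : Epi (UnitsSh.comap j) := by
    refine (TopCat.Sheaf.isLocallySurjective_iff_epi (X := Y.toTopCat) (UnitsSh.comap j)).1 ?_
    rw [TopCat.Presheaf.isLocallySurjective_iff]
    intro U s x hx
    obtain ⟨W, hW, hxW, hWU⟩ := exists_isAffineOpen_mem_and_subset (X := Y) (x := x) (U := U) hx
    let r : Γ(R, j ⁻¹ᵁ W)ˣ :=
      UnitsSh.unitOfSect (show sec (UnitsSh.unitsAb R) (j ⁻¹ᵁ W) from rr ((CohTop.push j.base).obj (UnitsSh.unitsAb R)) hWU s)
    obtain ⟨a, ha⟩ := j.app_surjective W hW r.1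
    obtain ⟨b, hb⟩ := j.app_surjective W hW r⁻¹.1
    have hn : IsNilpotent (a * b - 1) := hnil W hW _ (by rw [map_sub, map_mul, ha, hb, Units.mul_inv, map_one, sub_self])
    have hab : IsUnit (a * b) := by
      have := hn.isUnit_add_one
      rwa [sub_add_cancel] at this
    refine ⟨W, hWU, ⟨UnitsSh.sectOfUnit (O := Y.presheaf) (isUnit_of_mul_isUnit_left hab).unit, ?_⟩, hxW⟩
    have e : UnitsSh.unitOfSect (show sec (UnitsSh.unitsAb R) (j ⁻¹ᵁ W) from
        (UnitsSh.comap j).hom.app (op W) (UnitsSh.sectOfUnit (O := Y.presheaf) (isUnit_of_mul_isUnit_left hab).unit)) = r :=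
      Units.ext ha
    exact (UnitsSh.sectOfUnit_unitOfSect _).symm.trans ((congrArg UnitsSh.sectOfUnit e).trans
      (UnitsSh.sectOfUnit_unitOfSect _))
  haveI : Mono (kerSeq j).f := inferInstanceAs (Mono (kernel.ι (UnitsSh.comap j)))
  haveI : Epi (kerSeq j).g := inferInstanceAs (Epi (UnitsSh.comap j))
  exact { exact := ShortComplex.exact_of_f_is_kernel _ (kernelIsKernel _) }

variable [Law Y] [Law R] (hm : PullMul j)

include hj hnil in
/-- restriction is surjective when `H²` of the kernel vanishes -/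
theorem pullHom_surjective (h2 : Subsingleton (CohTop.H (kernel (UnitsSh.comap j)) 2)) :
    Function.Surjective (pullHom j hm) := fun c => by
  obtain ⟨ΨR, hΨ⟩ := exists_picEquiv_compat j hj hm
  let ΨY := picH1 Y
  obtain ⟨y, hy⟩ := Ext.covariant_sequence_exact₃ _ (kerSeq_shortExact j hj hnil) (ΨR (Additive.ofMul c))
    (rfl : 1 + 1 = 2) (h2.elim _ _)
  obtain ⟨b, rfl⟩ := ΨY.surjective y
  exact ⟨b.toMul, Additive.ofMul.injective (ΨR.injective ((hΨ b.toMul).symm.trans hy))⟩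

variable {R' : Scheme.{u}} (j' : R' ⟶ Y) [IsClosedImmersion j'] (hj' : IsHomeomorph j'.base) [Law R']
  (hm' : PullMul j') (q : ℕ)

theorem comp_nsmul {T : TopCat.{u}} {F G H : CohTop.Ab T} (φ : G ⟶ H) (x : CohTop.H F 1) (ψ : F ⟶ G) (n : ℕ) :
    Ext.comp x (Ext.mk₀ (ψ ≫ (n • φ))) (add_zero 1) =
      n • Ext.comp (Ext.comp x (Ext.mk₀ ψ) (add_zero 1)) (Ext.mk₀ φ) (add_zero 1) := by
  rw [Ext.comp_assoc_of_second_deg_zero, Ext.mk₀_comp_mk₀, Preadditive.comp_nsmul]
  induction n with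
  | zero => rw [zero_smul, zero_smul, Ext.mk₀_zero, Ext.comp_zero]
  | succ n ih => rw [succ_nsmul, succ_nsmul, Ext.mk₀_add, Ext.comp_add, ih]

theorem nsmul_app {T : TopCat.{u}} {F G : CohTop.Ab T} (φ : F ⟶ G) (n : ℕ) (U : Opens T) (t : sec F U) :
    (n • φ).hom.app (op U) t = n • φ.hom.app (op U) t := by
  induction n with
  | zero => rw [zero_smul, zero_smul]; rfl
  | succ n ih => rw [succ_nsmul, succ_nsmul, ← ih]; rfl

theorem oval_nsmul {X : Scheme.{u}} (n : ℕ) {U : X.Opens} (t : sec (UnitsSh.unitsAb X) U) :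
    oval (n • t) = oval t ^ n := by
  induction n with
  | zero => rw [zero_smul, pow_zero, ZarPicLib.oval_zero]
  | succ n ih => rw [succ_nsmul, oval_add, ih, pow_succ]

/-- lifting along a multiplication map in `H¹` -/
theorem exists_h1_root {T : TopCat.{u}} {K K' G C C' : CohTop.Ab T} (b : K ⟶ G) (g : G ⟶ C) (w : b ≫ g = 0)
    (hS : (ShortComplex.mk b g w).ShortExact) (a : K' ⟶ G) (g' : G ⟶ C') (w' : a ≫ g' = 0)
    (v : K' ⟶ K) [Epi v] (n : ℕ) (hv : v ≫ b = n • a) (h2 : ∀ F : CohTop.Ab T, Subsingleton (CohTop.H F 2))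
    (x : CohTop.H G 1) (hx : Ext.comp x (Ext.mk₀ g) (add_zero 1) = 0) :
    ∃ e : CohTop.H G 1, Ext.comp e (Ext.mk₀ g') (add_zero 1) = 0 ∧ n • e = x := by
  obtain ⟨h, hh⟩ := Ext.covariant_sequence_exact₂ _ hS x hx
  let V : ShortComplex (CohTop.Ab T) := ShortComplex.mk (kernel.ι v) v (kernel.condition _)
  have hV : V.ShortExact :=
    haveI : Mono V.f := inferInstanceAs (Mono (kernel.ι v))
    haveI : Epi V.g := inferInstanceAs (Epi v)
    { exact := ShortComplex.exact_of_f_is_kernel _ (kernelIsKernel _) }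
  obtain ⟨h', hh'⟩ := Ext.covariant_sequence_exact₃ _ hV h (rfl : 1 + 1 = 2) ((h2 _).elim _ _)
  refine ⟨Ext.comp h' (Ext.mk₀ a) (add_zero 1), ?_, ?_⟩
  · rw [Ext.comp_assoc_of_second_deg_zero, Ext.mk₀_comp_mk₀, w', Ext.mk₀_zero, Ext.comp_zero]
  · have h1 := comp_nsmul a h' (𝟙 _) n
    rw [Category.id_comp, Ext.comp_mk₀_id] at h1
    rw [← hh, ← hh', ← h1]
    change _ = Ext.comp (Ext.comp h' (Ext.mk₀ v) (add_zero 1)) (Ext.mk₀ b) (add_zero 1)
    rw [Ext.comp_assoc_of_second_deg_zero, Ext.mk₀_comp_mk₀, hv]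

include hj hj' hnil in
/-- the power map between the kernels is an epimorphism -/
theorem exists_powMap (hnil' : ∀ (U : Y.Opens), IsAffineOpen U → ∀ z : Γ(Y, U), j'.app U z = 0 → IsNilpotent z)
    (hpow : ∀ (U : Y.Opens) (z : Γ(Y, U)), IsUnit z → j'.app U z = 1 → j.app U (z ^ q) = 1)
    (hroot : ∀ (U : Y.Opens), IsAffineOpen U → ∀ z : Γ(Y, U), j.app U z = 1 →
      ∃ w, j'.app U w = 1 ∧ w ^ q = z) :
    ∃ v : kernel (UnitsSh.comap j') ⟶ kernel (UnitsSh.comap j),
      v ≫ kernel.ι (UnitsSh.comap j) = q • kernel.ι (UnitsSh.comap j') ∧ Epi v := by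
  have hS := kerSeq_shortExact j hj hnil
  have hS' := kerSeq_shortExact j' hj' hnil'
  let a := kernel.ι (UnitsSh.comap j')
  let b := kernel.ι (UnitsSh.comap j)
  have h0 : (q • a) ≫ UnitsSh.comap j = 0 := by
    apply Sheaf.hom_ext
    ext U t
    change (UnitsSh.comap j).hom.app (op U.unop) ((q • a).hom.app (op U.unop) t) = 0
    rw [nsmul_app, comap_eq_zero_iff, oval_nsmul]
    refine hpow U.unop _ (ZarPicLib.isUnit_oval _) ((comap_eq_zero_iff j' _).1 ?_)
    exact ZarPicLib.g_f (S := kerSeq j') t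
  let v : kernel (UnitsSh.comap j') ⟶ kernel (UnitsSh.comap j) := kernel.lift _ (q • a) h0
  have hv : v ≫ b = q • a := kernel.lift_ι _ _ _
  refine ⟨v, hv, ?_⟩
  refine (TopCat.Sheaf.isLocallySurjective_iff_epi (X := Y.toTopCat) v).1 ?_
  rw [TopCat.Presheaf.isLocallySurjective_iff]
  intro U s x hx
  obtain ⟨W, hW, hxW, hWU⟩ := exists_isAffineOpen_mem_and_subset (X := Y) (x := x) (U := U) hx
  let s' : sec (kernel (UnitsSh.comap j)) W := rr _ hWU s
  have hs' : j.app W (oval (b.hom.app (op W) s')) = 1 :=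
    (comap_eq_zero_iff j _).1 (ZarPicLib.g_f (S := kerSeq j) s')
  obtain ⟨w, hw1, hw2⟩ := hroot W hW _ hs'
  have hwu : IsUnit w := by
    have hn : IsNilpotent (w - 1) := hnil' W hW _ (by rw [map_sub, hw1, map_one, sub_self])
    have := hn.isUnit_add_one
    rwa [sub_add_cancel] at this
  obtain ⟨t₀, ht₀⟩ := exists_oval hwu
  obtain ⟨t, ht⟩ := ZarPicLib.exists_kernel hS' t₀ ((comap_eq_zero_iff j' _).2 (by rw [ht₀, hw1]))
  refine ⟨W, hWU, ⟨t, ?_⟩, hxW⟩
  refine ZarPicLib.f_injective hS W ?_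
  change b.hom.app (op W) (v.hom.app (op W) t) = b.hom.app (op W) s'
  refine oval_injective ?_
  rw [show b.hom.app (op W) (v.hom.app (op W) t) = (q • a).hom.app (op W) t from
    ConcreteCategory.congr_hom (NatTrans.congr_app (congrArg (fun e => e.hom) hv) (op W)) t, nsmul_app, oval_nsmul, ← hw2]
  exact congrArg (· ^ q) ((congrArg oval ht).trans ht₀)

include hj hj' hnil in
/-- classes trivial on `R` are `q`-th powers of classes trivial on `R'` -/
theorem exists_root (hnil' : ∀ (U : Y.Opens), IsAffineOpen U → ∀ z : Γ(Y, U), j'.app U z = 0 → IsNilpotent z)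
    (hpow : ∀ (U : Y.Opens) (z : Γ(Y, U)), IsUnit z → j'.app U z = 1 → j.app U (z ^ q) = 1)
    (hroot : ∀ (U : Y.Opens), IsAffineOpen U → ∀ z : Γ(Y, U), j.app U z = 1 →
      ∃ w, j'.app U w = 1 ∧ w ^ q = z)
    (h2 : ∀ K : CohTop.Ab Y.toTopCat, Subsingleton (CohTop.H K 2))
    {c : PicLoc.PicSet Y} (hc : pullHom j hm c = 1) :
    ∃ d, pullHom j' hm' d = 1 ∧ d ^ q = c := by
  obtain ⟨v, hv, hve⟩ := exists_powMap j hj hnil j' hj' q hnil' hpow hroot
  haveI := hve
  obtain ⟨ΨR, hΨ⟩ := exists_picEquiv_compat j hj hm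
  obtain ⟨ΦR, hΦ⟩ := exists_picEquiv_compat j' hj' hm'
  obtain ⟨e, he0, he⟩ := exists_h1_root (kernel.ι (UnitsSh.comap j)) (UnitsSh.comap j) (kernel.condition _)
    (kerSeq_shortExact j hj hnil) (kernel.ι (UnitsSh.comap j')) (UnitsSh.comap j') (kernel.condition _) v q hv h2
    (picH1 Y (Additive.ofMul c)) ((hΨ c).trans (by rw [hc, ofMul_one, map_zero]))
  obtain ⟨c', hc'⟩ := (picH1 Y).surjective e
  refine ⟨c'.toMul, ?_, ?_⟩
  · refine Additive.ofMul.injective (ΦR.injective ?_)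
    rw [← hΦ, ofMul_one, map_zero, ofMul_toMul, hc', he0]
  · refine Additive.ofMul.injective ((picH1 Y).injective ?_)
    rw [ofMul_pow, map_nsmul, ofMul_toMul, hc', he]

end Groth.Agent.ThickPic
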