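import Groth.Agent.ThickPic.System
import Groth.Agent.ThickPic.UnitsKer
import Groth.Agent.ThickPic.Formal
import Groth.Agent.CurveRR.Deg
import Groth.Agent.S0458
import Groth.Agent.TopDim.Basic
import Groth.Agent.LocalDimBC.Smooth

/-!
# Invertible classes on the thickenings of a curve over an adically complete ring
-/

set_option autoImplicit false
set_option backward.isDefEq.respectTransparency false
set_option backward.isDefEq.respectTransparency.types false
set_option linter.style.haveILetI false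
set_option maxHeartbeats 1000000

universe u

open CategoryTheory CategoryTheory.Limits AlgebraicGeometry TopologicalSpace Opposite
open Groth.Agent.QC (resO)
open PicGrp

noncomputable section

namespace Groth.Agent.ThickPic

/-- binomial expansion to the third order -/
theorem exists_pow_expand {R : Type u} [CommRing R] (t : R) (n : ℕ) :
    ∃ w, (1 + t) ^ n = 1 + (n : R) * t + (n.choose 2 : ℕ) * t ^ 2 + t ^ 3 * w := by
  induction n with
  | zero => exact ⟨0, by simp⟩
  | succ n ih =>
    obtain ⟨w, hw⟩ := ih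
    refine ⟨w + ((n.choose 2 : ℕ) : R) + t * w, ?_⟩
    rw [pow_succ, hw, Nat.choose_succ_succ, Nat.choose_one_right]
    push_cast
    ring

/-- `p`-th powers raise the level by one -/
theorem exists_pow_prime {R : Type u} [CommRing R] {p : ℕ} (hp : p.Prime) (hp2 : 2 < p) {b : ℕ} (hb : 1 ≤ b) (z : R) :
    ∃ y, (1 + (p : R) ^ b * z) ^ p = 1 + (p : R) ^ (b + 1) * (z + p * y) := by
  obtain ⟨w, hw⟩ := exists_pow_expand ((p : R) ^ b * z) p
  obtain ⟨c, hc⟩ := hp.dvd_choose_self (k := 2) two_ne_zero hp2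
  obtain ⟨e, rfl⟩ : ∃ e, b = e + 1 := ⟨b - 1, by omega⟩
  refine ⟨(c : R) * (p : R) ^ e * z ^ 2 + (p : R) ^ (2 * e) * z ^ 3 * w, ?_⟩
  rw [hw, hc]
  push_cast
  ring

theorem exists_pow_primePow {R : Type u} [CommRing R] {p : ℕ} (hp : p.Prime) (hp2 : 2 < p) {b : ℕ} (hb : 1 ≤ b)
    (i : ℕ) (x : R) : ∃ y, (1 + (p : R) ^ b * x) ^ (p ^ i) = 1 + (p : R) ^ (b + i) * (x + p * y) := by
  induction i with
  | zero => exact ⟨0, by simp⟩
  | succ i ih =>
    obtain ⟨y, hy⟩ := ih
    obtain ⟨y', hy'⟩ := exists_pow_prime hp hp2 (b := b + i) (by omega) (x + (p : R) * y)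
    refine ⟨y + y', ?_⟩
    rw [pow_succ p i, pow_mul, hy, hy', ← Nat.add_assoc]
    ring

variable {A : Type u} [CommRing A] {X : Scheme.{u}} (f : X ⟶ Spec (CommRingCat.of A)) (I : Ideal A)

instance isClosedImmersion_thickι (n : ℕ) : IsClosedImmersion (CohB1.thickι f I n) := by
  haveI : IsClosedImmersion (CohB1.specQuot I n) := IsClosedImmersion.spec_of_surjective _ Ideal.Quotient.mk_surjective
  exact MorphismProperty.pullback_fst _ _ inferInstance

/-- the base map between two levels -/
def baseTrans {r s : ℕ} (h : r ≤ s) :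
    Spec (CommRingCat.of (A ⧸ I ^ (r + 1))) ⟶ Spec (CommRingCat.of (A ⧸ I ^ (s + 1))) :=
  Spec.map (CommRingCat.ofHom (Ideal.Quotient.factor (Ideal.pow_le_pow_right (Nat.succ_le_succ h))))

theorem baseTrans_specQuot {r s : ℕ} (h : r ≤ s) : baseTrans I h ≫ CohB1.specQuot I s = CohB1.specQuot I r := by
  rw [baseTrans, CohB1.specQuot, CohB1.specQuot, ← Spec.map_comp]
  congr 1

/-- the inclusion of a level in a higher one -/
def trans {r s : ℕ} (h : r ≤ s) : CohB1.thick f I r ⟶ CohB1.thick f I s :=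
  pullback.lift (CohB1.thickι f I r) (CohB1.thickToBase f I r ≫ baseTrans I h) (by
    rw [Category.assoc, baseTrans_specQuot]
    exact pullback.condition)

theorem trans_ι {r s : ℕ} (h : r ≤ s) : trans f I h ≫ CohB1.thickι f I s = CohB1.thickι f I r :=
  pullback.lift_fst _ _ _

instance isClosedImmersion_trans {r s : ℕ} (h : r ≤ s) : IsClosedImmersion (trans f I h) := by
  haveI : IsClosedImmersion (trans f I h ≫ CohB1.thickι f I s) := by rw [trans_ι]; infer_instance
  exact IsClosedImmersion.of_comp _ (CohB1.thickι f I s)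

theorem isPullback_trans {r s : ℕ} (h : r ≤ s) :
    IsPullback (trans f I h) (CohB1.thickToBase f I r) (CohB1.thickToBase f I s) (baseTrans I h) :=
  IsPullback.of_right (by
    rw [trans_ι, baseTrans_specQuot]
    exact IsPullback.of_hasPullback f (CohB1.specQuot I r))
    (pullback.lift_snd _ _ _) (IsPullback.of_hasPullback f (CohB1.specQuot I s))

theorem isHomeomorph_trans {r s : ℕ} (h : r ≤ s) : IsHomeomorph (trans f I h).base := by
  refine isHomeomorph_iff_isEmbedding_surjective.2 ⟨(trans f I h).isClosedEmbedding.isEmbedding, fun y => ?_⟩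
  have hr : Set.range (CohB1.thickι f I r).base = Set.range (CohB1.thickι f I s).base := by
    rw [W7Alg.range_thickι, W7Alg.range_thickι]
  obtain ⟨x, hx⟩ := hr.symm.le ⟨y, rfl⟩
  refine ⟨x, (CohB1.thickι f I s).isClosedEmbedding.injective ?_⟩
  rw [← hx, ← trans_ι f I h]
  rfl

section

attribute [local instance] W7Cube.law

theorem pull_trans_ι {r s : ℕ} (h : r ≤ s) (c : PicLoc.PicSet X) :
    W7Cube.pull (trans f I h) (W7Cube.pull (CohB1.thickι f I s) c) = W7Cube.pull (CohB1.thickι f I r) c := by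
  rw [W7Cube.pull_pull, pull_congr (trans_ι f I h)]

theorem trans_trans {r s t : ℕ} (h : r ≤ s) (h' : s ≤ t) :
    trans f I h ≫ trans f I h' = trans f I (h.trans h') := by
  rw [← cancel_mono (CohB1.thickι f I t), Category.assoc, trans_ι, trans_ι, trans_ι]

theorem thickTrans_eq (n : ℕ) : CohB1.thickTrans f I n = trans f I (Nat.le_succ n) := by
  rw [← cancel_mono (CohB1.thickι f I (n + 1)), trans_ι, W7Alg.thickTrans_fst]

theorem trans_self (n : ℕ) : trans f I (le_refl n) = 𝟙 _ := by
  rw [← cancel_mono (CohB1.thickι f I n), trans_ι, Category.id_comp]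

variable {p : ℕ}

/-- functions killed on a lower level -/
theorem exists_eq_pow_mul {r s : ℕ} (h : r ≤ s) {U : (CohB1.thick f (Ideal.span {(p : A)}) s).Opens}
    (hU : IsAffineOpen U) {z : Γ(CohB1.thick f (Ideal.span {(p : A)}) s, U)}
    (hz : (trans f (Ideal.span {(p : A)}) h).app U z = 0) :
    ∃ x, z = (p : Γ(CohB1.thick f (Ideal.span {(p : A)}) s, U)) ^ (r + 1) * x := by
  let I : Ideal A := Ideal.span {(p : A)}
  letI : (CohB1.thick f I s).Over (Spec (CommRingCat.of (A ⧸ I ^ (s + 1)))) := ⟨CohB1.thickToBase f I s⟩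
  have hk := W7Alg.ker_app_baseChange (f' := CohB1.thickToBase f I r)
    (Ideal.Quotient.factor (Ideal.pow_le_pow_right (Nat.succ_le_succ h)))
    (Ideal.Quotient.factor_surjective _) (isPullback_trans f I h) ⟨U, hU⟩
  have hmem : z ∈ RingHom.ker ((trans f I h).app U).hom := hz
  rw [hk, Ideal.Quotient.factor_ker, Ideal.map_map, Ideal.map_pow] at hmem
  have key : ∀ {R : Type u} [CommRing R] (ψ : A →+* R) (z : R),
      z ∈ (I.map ψ) ^ (r + 1) → ∃ x, z = (p : R) ^ (r + 1) * x := fun {R} _ ψ z hz' => by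
    have hI : I.map ψ = Ideal.span {(p : R)} := by
      change Ideal.map ψ (Ideal.span {(p : A)}) = _
      rw [Ideal.map_span, Set.image_singleton, map_natCast]
    rw [hI, Ideal.span_singleton_pow, Ideal.mem_span_singleton'] at hz'
    obtain ⟨x, hx⟩ := hz'
    exact ⟨x, by rw [← hx, _root_.mul_comm]⟩
  exact key _ z hmem

theorem pow_eq_zero_thick {s : ℕ} (U : (CohB1.thick f (Ideal.span {(p : A)}) s).Opens) :
    (p : Γ(CohB1.thick f (Ideal.span {(p : A)}) s, U)) ^ (s + 1) = 0 := by
  let I : Ideal A := Ideal.span {(p : A)}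
  let φ : (A ⧸ I ^ (s + 1)) →+* Γ(CohB1.thick f I s, U) :=
    ((CohB1.thick f I s).presheaf.map (homOfLE (le_top : U ≤ ⊤)).op).hom.comp
      ((CohB1.thickToBase f I s).appTop.hom.comp (Scheme.ΓSpecIso (CommRingCat.of (A ⧸ I ^ (s + 1)))).inv.hom)
  have h0 : (p : A ⧸ I ^ (s + 1)) ^ (s + 1) = 0 := by
    rw [← map_natCast (Ideal.Quotient.mk (I ^ (s + 1))), ← map_pow, Ideal.Quotient.eq_zero_iff_mem]
    exact Ideal.pow_mem_pow (Ideal.mem_span_singleton_self _) _
  have := congrArg φ h0
  rwa [map_pow, map_natCast, map_zero] at this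

theorem isNilpotent_of_app {r s : ℕ} (h : r ≤ s) (U : (CohB1.thick f (Ideal.span {(p : A)}) s).Opens)
    (hU : IsAffineOpen U) (z : Γ(CohB1.thick f (Ideal.span {(p : A)}) s, U))
    (hz : (trans f (Ideal.span {(p : A)}) h).app U z = 0) : IsNilpotent z := by
  obtain ⟨x, rfl⟩ := exists_eq_pow_mul f h hU hz
  exact (Commute.all _ x).isNilpotent_mul_right ⟨s + 1, by rw [← pow_mul, _root_.mul_comm, pow_mul, pow_eq_zero_thick, zero_pow (Nat.succ_ne_zero r)]⟩

variable (hp : p.Prime) (hp2 : 2 < p) (hdim : ∀ n, Subsingleton (CohTop.H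
  ((constantSheaf (Opens.grothendieckTopology (CohB1.thick f (Ideal.span {(p : A)}) n).toTopCat) AddCommGrpCat.{u}).obj
    (AddCommGrpCat.of (ULift.{u} ℤ))) 2))

omit hdim

include hp hp2 in
/-- classes trivial on level `r + i` are `p^i`-th powers on level `r + i + 1` -/
theorem exists_root_thick (r i : ℕ)
    (h2 : ∀ (n : ℕ) (K : CohTop.Ab (CohB1.thick f (Ideal.span {(p : A)}) n).toTopCat), Subsingleton (CohTop.H K 2))
    (c : PicLoc.PicSet (CohB1.thick f (Ideal.span {(p : A)}) (r + i + 1)))
    (hc : W7Cube.pull (trans f (Ideal.span {(p : A)}) (Nat.le_succ (r + i))) c = 1) :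
    ∃ d, W7Cube.pull (trans f (Ideal.span {(p : A)}) (show r ≤ r + i + 1 by omega)) d = 1 ∧ d ^ (p ^ i) = c := by
  let I : Ideal A := Ideal.span {(p : A)}
  let j := trans f I (Nat.le_succ (r + i))
  let j' := trans f I (show r ≤ r + i + 1 by omega)
  refine exists_root j (isHomeomorph_trans f I _) (isNilpotent_of_app f _) (W7Cube.pullMul j) j'
    (isHomeomorph_trans f I _) (W7Cube.pullMul j') (p ^ i) (isNilpotent_of_app f _) (fun U z _ hz => ?_)
    (fun U hU z hz => ?_) (h2 _) hc
  · refine TopCat.Presheaf.IsSheaf.section_ext (CohB1.thick f I (r + i)).sheaf.2 fun x hx => ?_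
    obtain ⟨W, hW, hxW, hWU⟩ := exists_isAffineOpen_mem_and_subset (X := CohB1.thick f I (r + i + 1))
      (x := j x) (U := U) hx
    refine ⟨j ⁻¹ᵁ W, j.preimage_mono hWU, hxW, ?_⟩
    have hres : ∀ {S : Scheme.{u}} (g : S ⟶ CohB1.thick f I (r + i + 1)) (t : Γ(CohB1.thick f I (r + i + 1), U)),
        resO S (g.preimage_mono hWU) (g.app U t) = g.app W (resO _ hWU t) :=
      fun g t => (ConcreteCategory.congr_hom (g.naturality (homOfLE hWU).op) t).symm
    change resO _ (j.preimage_mono hWU) (j.app U (z ^ (p ^ i))) = resO _ (j.preimage_mono hWU) 1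
    rw [hres j, map_one]
    obtain ⟨x', hx'⟩ := exists_eq_pow_mul f (show r ≤ r + i + 1 by omega) hW (z := resO _ hWU z - 1) (by
      rw [map_sub, ← hres, hz, map_one, map_one, sub_self])
    rw [sub_eq_iff_eq_add'] at hx'
    rw [map_pow, hx']
    obtain ⟨y, hy⟩ := exists_pow_primePow hp hp2 (b := r + 1) (by omega) i x'
    rw [hy, map_add, map_one, map_mul, map_pow, map_natCast, show r + 1 + i = r + i + 1 by omega,
      pow_eq_zero_thick, zero_mul, add_zero]
  · obtain ⟨x, hx⟩ := exists_eq_pow_mul f (Nat.le_succ (r + i)) hU (z := z - 1) (by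
      rw [map_sub, hz, map_one, sub_self])
    refine ⟨1 + (p : Γ(CohB1.thick f I (r + i + 1), U)) ^ (r + 1) * x, ?_, ?_⟩
    · rw [map_add, map_one, map_mul, map_pow, map_natCast, pow_eq_zero_thick, zero_mul, add_zero]
    · obtain ⟨y, hy⟩ := exists_pow_primePow hp hp2 (b := r + 1) (by omega) i x
      rw [hy, mul_add, show r + 1 + i = r + i + 1 by omega, ← hx, ← mul_assoc,
        ← pow_succ, pow_eq_zero_thick, zero_mul, add_zero, add_sub_cancel]

theorem pullHom_trans_surjective
    (h2 : ∀ (n : ℕ) (K : CohTop.Ab (CohB1.thick f (Ideal.span {(p : A)}) n).toTopCat), Subsingleton (CohTop.H K 2))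
    (n : ℕ) : Function.Surjective (W7Cube.pull (trans f (Ideal.span {(p : A)}) (Nat.le_succ n))) :=
  pullHom_surjective _ (isHomeomorph_trans f _ _) (isNilpotent_of_app f _) _ (h2 _ _)

variable [IsNoetherianRing A] [IsAdicComplete (Ideal.span {(p : A)}) A] [IsProper f]

/-- **restriction to the thickenings is surjective** -/
theorem pull_thickι_surjective
    (h2 : ∀ (n : ℕ) (K : CohTop.Ab (CohB1.thick f (Ideal.span {(p : A)}) n).toTopCat), Subsingleton (CohTop.H K 2))
    {H : X.Modules} (hH : CohB1.IsAmple H) (n : ℕ) :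
    Function.Surjective (W7Cube.pull (CohB1.thickι f (Ideal.span {(p : A)}) n)) := fun c => by
  let I : Ideal A := Ideal.span {(p : A)}
  choose up hup using pullHom_trans_surjective f h2
  let x : ∀ k, PicLoc.PicSet (CohB1.thick f I (n + k)) := fun k =>
    Nat.rec (motive := fun k => PicLoc.PicSet (CohB1.thick f I (n + k))) c (fun k a => up (n + k) a) k
  have hx : ∀ k, W7Cube.pull (trans f I (Nat.le_succ (n + k))) (x (k + 1)) = x k := fun k => hup (n + k) (x k)
  have hx0 : ∀ k, W7Cube.pull (trans f I (Nat.le_add_right n k)) (x k) = c := fun k => by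
    induction k with
    | zero =>
      exact (pull_congr (trans_self f I n) c).trans (PicGrp.pullHom_id_apply _ _)
    | succ k ih =>
      exact (pull_congr (trans_trans f I (Nat.le_add_right n k) (Nat.le_succ (n + k))).symm _).trans
        ((W7Cube.pull_pull _ _ _).symm.trans ((congrArg _ (hx k)).trans ih))
  obtain ⟨a, ha⟩ := exists_pull_eq f hH (fun m => W7Cube.pull (trans f I (Nat.le_add_left m n)) (x m)) fun m => by
    have h := congrArg (W7Cube.pull (trans f I (Nat.le_add_left m n))) (hx m)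
    rw [W7Cube.pull_pull] at h ⊢
    rw [pull_congr (trans_trans f I (Nat.le_add_left m n) (Nat.le_succ (n + m)))] at h
    rw [← h, pull_congr (show CohB1.thickTrans f I m ≫ trans f I (Nat.le_add_left (m + 1) n) =
      trans f I ((Nat.le_add_left m n).trans (Nat.le_succ (n + m))) by rw [thickTrans_eq]; exact trans_trans f I _ _)]
    rfl
  exact ⟨a, (ha n).trans (hx0 n)⟩

variable [IsLocalRing A]

include hp hp2 in
/-- **classes trivial on level `i` are `p^i`-th powers** -/
theorem exists_pow_eq (hI : Ideal.span {(p : A)} ≤ IsLocalRing.maximalIdeal A)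
    (h2 : ∀ (n : ℕ) (K : CohTop.Ab (CohB1.thick f (Ideal.span {(p : A)}) n).toTopCat), Subsingleton (CohTop.H K 2))
    {H : X.Modules} (hH : CohB1.IsAmple H) (i : ℕ) {c : PicLoc.PicSet X}
    (hc : W7Cube.pull (CohB1.thickι f (Ideal.span {(p : A)}) i) c = 1) :
    ∃ b, b ^ (p ^ i) = c := by
  let I : Ideal A := Ideal.span {(p : A)}
  let Q : ℕ → PicLoc.PicSet X → Prop := fun r P => W7Cube.pull (CohB1.thickι f I (r + i)) (c / P ^ (p ^ i)) = 1
  have hstep : ∀ r P, Q r P → ∃ P', Q (r + 1) P' ∧
      W7Cube.pull (CohB1.thickι f I r) P' = W7Cube.pull (CohB1.thickι f I r) P := fun r P hP => by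
    obtain ⟨d, hd, hdc⟩ := exists_root_thick f hp hp2 r i h2
      (W7Cube.pull (CohB1.thickι f I (r + i + 1)) (c / P ^ (p ^ i))) (by rw [pull_trans_ι]; exact hP)
    obtain ⟨D, hD⟩ := pull_thickι_surjective f h2 hH (r + i + 1) d
    refine ⟨P * D, ?_, ?_⟩
    · change W7Cube.pull (CohB1.thickι f I (r + 1 + i)) _ = 1
      rw [show r + 1 + i = r + i + 1 by omega, mul_pow, div_mul_eq_div_div, map_div, map_pow, hD, hdc, div_self']
    · rw [map_mul, ← pull_trans_ι f I (show r ≤ r + i + 1 by omega) D, hD, hd, mul_one]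
  choose next hnext hnext' using hstep
  have h00 : Q 0 1 := by
    change W7Cube.pull (CohB1.thickι f I (0 + i)) _ = 1
    rw [one_pow, div_one, Nat.zero_add]
    exact hc
  let P : ∀ r, {P : PicLoc.PicSet X // Q r P} := fun r =>
    Nat.rec (motive := fun r => {P : PicLoc.PicSet X // Q r P}) ⟨1, h00⟩
      (fun r a => ⟨next r a.1 a.2, hnext r a.1 a.2⟩) r
  obtain ⟨b, hb⟩ := exists_pull_eq f hH (fun r => W7Cube.pull (CohB1.thickι f I r) (P r).1) fun r => by
    rw [W7Cube.pull_pull, pull_congr (W7Alg.thickTrans_fst I f r)]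
    exact hnext' r (P r).1 (P r).2
  refine ⟨b, ?_⟩
  have hall : ∀ r, W7Cube.pull (CohB1.thickι f I r) (c / b ^ (p ^ i)) = 1 := fun r => by
    rw [map_div, map_pow, hb, ← map_pow, ← map_div, ← pull_trans_ι f I (Nat.le_add_right r i)]
    rw [show W7Cube.pull (CohB1.thickι f I (r + i)) (c / (P r).1 ^ (p ^ i)) = 1 from (P r).2, map_one]
  obtain ⟨L, hL, hcL⟩ := exists_eq_cls (c / b ^ (p ^ i))
  letI : X.Over (Spec (CommRingCat.of A)) := ⟨f⟩
  haveI : IsProper (X ↘ Spec (CommRingCat.of A)) := ‹IsProper f›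
  haveI : IsLocallyNoetherian X := LocallyOfFiniteType.isLocallyNoetherian f
  have hiso := nonempty_iso_of_thick I hI hL (CurveRR.isCoh_of_inv hL) fun r => by
    have h := hall r
    rw [hcL, W7Cube.pull_cls, cls_eq_one_iff] at h
    exact h
  exact (div_eq_one.1 (hcL.trans ((cls_eq_one_iff hL).2 hiso))).symm

end

section dim

variable [IsNoetherianRing A] [IsLocalRing A] [IsProper f] [SmoothOfRelativeDimension 1 f]

/-- no `H²` on the thickenings of a relative curve -/
theorem subsingleton_h2 (hI : I ≤ IsLocalRing.maximalIdeal A) (hI' : IsLocalRing.maximalIdeal A ≤ I)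
    (n : ℕ) (K : CohTop.Ab (CohB1.thick f I n).toTopCat) : Subsingleton (CohTop.H K 2) := by
  let s := IsLocalRing.closedPoint A
  have hfib : topologicalKrullDim ↥(f.fiber s) ≤ (1 : ℕ) := by
    rw [TopDim.dim_eq_iSup_localDim]
    refine iSup_le fun z => ?_
    have hz : f (f.fiberι s z) = s := f.range_fiberι s |>.le ⟨z, rfl⟩
    have key : ∀ (x : X) (t : Spec (CommRingCat.of A)) (z : f.fiber t), f.fiberι t z = x → f x = t →
        FlatMor.localDim ↥(f.fiber t) z ≤ (1 : ℕ) := by
      rintro x t z hzx rfl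
      have : z = f.asFiber x := (f.fiberι (f x)).isEmbedding.injective (by rw [hzx, Scheme.Hom.fiberι_asFiber])
      rw [this]
      exact (LocalDimBC.fibreDimAt_of_smoothOfRelativeDimension 1 f x).le
    exact key _ s z rfl hz
  let ι' := CohB1.thickι f I n
  have hmem : ∀ x, ι' x ∈ Set.range (f.fiberι s) := fun x => by
    rw [f.range_fiberι]
    have h : ι' x ∈ Set.range ι'.base := ⟨x, rfl⟩
    rw [W7Alg.range_thickι] at h
    refine PrimeSpectrum.ext ?_
    refine ((IsLocalRing.maximalIdeal.isMaximal A).eq_of_le (f (ι' x)).2.ne_top (fun a ha => ?_)).symm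
    exact not_not.1 (h a (hI' ha))
  have hd : topologicalKrullDim ↥(CohB1.thick f I n) ≤ (1 : ℕ) := by
    choose g hg using hmem
    refine le_trans ?_ hfib
    refine Topology.IsInducing.topologicalKrullDim_le (f := g) ?_
    have hgc : Continuous g := (f.fiberι s).isEmbedding.isInducing.continuous_iff.2 (by
      rw [show f.fiberι s ∘ g = ι' from funext hg]; exact ι'.continuous)
    refine Topology.IsInducing.of_comp hgc (f.fiberι s).continuous ?_
    rw [show f.fiberι s ∘ g = ι' from funext hg]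
    exact ι'.isEmbedding.isInducing
  haveI : IsLocallyNoetherian X := LocallyOfFiniteType.isLocallyNoetherian f
  haveI : IsLocallyNoetherian (CohB1.thick f I n) := LocallyOfFiniteType.isLocallyNoetherian ι'
  haveI : CompactSpace X := QuasiCompact.compactSpace_of_compactSpace f
  haveI : CompactSpace (CohB1.thick f I n) := QuasiCompact.compactSpace_of_compactSpace ι'
  haveI : IsNoetherian (CohB1.thick f I n) := {}
  haveI : NoetherianSpace ((CohB1.thick f I n).toTopCat : Type u) := inferInstanceAs (NoetherianSpace ↥(CohB1.thick f I n))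
  exact S0458.result (X := (CohB1.thick f I n).toTopCat) 1 hd K 2 one_lt_two

end dim

end Groth.Agent.ThickPic
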