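import Groth.Agent.ZarPicLib.Coboundary
import Groth.Agent.GenIso.Basic
import Groth.Agent.TMul.Power
import Groth.Agent.C1Cap.PullGen
import Groth.Agent.QC.IdealMod
import Groth.Agent.UfdExtend.Glue
import Groth.Prelude.Def_Pic

/-!
# Invertible modules on a square-zero thickening
-/

set_option autoImplicit false
set_option backward.isDefEq.respectTransparency false
set_option backward.isDefEq.respectTransparency.types false
set_option linter.style.haveILetI false
set_option maxHeartbeats 1000000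

universe u

open CategoryTheory CategoryTheory.Limits AlgebraicGeometry TopologicalSpace Opposite
open Groth.Agent.QC (res resO res_res res_smul resO_resO app_res)
open ProjMor (eta eta_res eta_smul)
open TMul (IsGen)

noncomputable section

namespace Groth.Agent.ThickPic

variable {X : Scheme.{u}} {I : X.IdealSheafData}

/-- Two functions killed on the closed subscheme multiply to zero. -/
theorem mul_eq_zero_of_app (hI : I * I = ⊥) {U : X.Opens} {a b : Γ(X, U)} (ha : I.subschemeι.app U a = 0)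
    (hb : I.subschemeι.app U b = 0) : a * b = 0 := by
  refine TopCat.Presheaf.IsSheaf.section_ext X.sheaf.2 fun x hx => ?_
  obtain ⟨W, hW, hxW, hWU⟩ := exists_isAffineOpen_mem_and_subset (X := X) (x := x) (U := U) hx
  refine ⟨W, hWU, hxW, ?_⟩
  have key : ∀ c : Γ(X, U), I.subschemeι.app U c = 0 → resO X hWU c ∈ I.ideal ⟨W, hW⟩ := fun c hc => by
    rw [← I.ker_subschemeι_app, RingHom.mem_ker]
    have h := ConcreteCategory.congr_hom (I.subschemeι.naturality (homOfLE hWU).op) c
    refine h.trans ?_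
    change I.subscheme.presheaf.map _ (I.subschemeι.app U c) = 0
    rw [hc, map_zero]
  have h : resO X hWU a * resO X hWU b ∈ (I * I).ideal ⟨W, hW⟩ := by
    rw [Scheme.IdealSheafData.ideal_mul]
    exact Ideal.mul_mem_mul (key a ha) (key b hb)
  rw [hI, Scheme.IdealSheafData.ideal_bot] at h
  change resO X hWU (a * b) = resO X hWU 0
  rw [map_mul, map_zero]
  exact h

theorem isUnit_of_app (hI : I * I = ⊥) {U : X.Opens} {u : Γ(X, U)} (hu : ∃ v, I.subschemeι.app U (u * v) = 1) :
    IsUnit u := by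
  obtain ⟨v, hv⟩ := hu
  have hn : I.subschemeι.app U (u * v - 1) = 0 := by rw [map_sub, hv, map_one, sub_self]
  refine IsUnit.of_mul_eq_one (v * (1 - (u * v - 1))) ?_
  have h2 := mul_eq_zero_of_app hI hn hn
  linear_combination -h2

/-- **invertible modules with isomorphic restrictions are isomorphic when `H¹(I) = 0`** -/
theorem nonempty_iso_of_pullback_iso (hI : I * I = ⊥) (h1 : Subsingleton (Coh.HH X (ClSub.idealMod I) 1))
    {L M : X.Modules} (hL : PicF.IsInvertible L) (hM : PicF.IsInvertible M)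
    (φ : (Scheme.Modules.pullback I.subschemeι).obj M ≅ (Scheme.Modules.pullback I.subschemeι).obj L) :
    Nonempty (M ≅ L) := by
  let i := I.subschemeι
  have hloc : ∀ x : X, ∃ (W : X.Opens) (t : Γ(L, W)) (s : Γ(M, W)), x ∈ W ∧ IsGen t ∧ IsGen s ∧
      φ.hom.app (i ⁻¹ᵁ W) (eta i M W s) = eta i L W t := fun x => by
    obtain ⟨A, t, hxA, ht⟩ := TMul.exists_isGen hL x
    obtain ⟨B, s, hxB, hs⟩ := TMul.exists_isGen hM x
    obtain ⟨W, hW, hxW, hle⟩ := exists_isAffineOpen_mem_and_subset (X := X) (x := x) (U := A ⊓ B) ⟨hxA, hxB⟩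
    let t₀ := res L (hle.trans inf_le_left) t
    let s₀ := res M (hle.trans inf_le_right) s
    have ht₀ : IsGen t₀ := ht.res _
    have hs₀ : IsGen s₀ := hs.res _
    have hφ : IsGen (φ.hom.app (i ⁻¹ᵁ W) (eta i M W s₀)) := fun V hV => by
      have hb : Function.Bijective (φ.hom.app V) := ConcreteCategory.bijective_of_isIso (φ.hom.app V)
      have : (fun c : Γ(I.subscheme, V) => c • res _ hV (φ.hom.app (i ⁻¹ᵁ W) (eta i M W s₀))) =
          (φ.hom.app V) ∘ fun c : Γ(I.subscheme, V) => c • res _ hV (eta i M W s₀) := funext fun c => by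
        rw [Function.comp_apply, app_res, Scheme.Modules.Hom.app_smul]
      rw [this]
      exact hb.comp (C1Cap.isGen_eta i hs₀ V hV)
    have ht₁ := C1Cap.isGen_eta i ht₀
    obtain ⟨r, hr⟩ := (ht₁ _ le_rfl).2 (φ.hom.app (i ⁻¹ᵁ W) (eta i M W s₀))
    obtain ⟨r', hr'⟩ := (hφ _ le_rfl).2 (eta i L W t₀)
    simp only [Groth.Agent.QC.res_self] at hr hr'
    have hrr : r * r' = 1 := (ht₁ _ le_rfl).1 (by
      simp only [Groth.Agent.QC.res_self, one_smul]
      rw [_root_.mul_comm, mul_smul, hr, hr'])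
    obtain ⟨u, hu⟩ := I.subschemeι_app_surjective ⟨W, hW⟩ r
    obtain ⟨v, hv⟩ := I.subschemeι_app_surjective ⟨W, hW⟩ r'
    have hunit : IsUnit u := isUnit_of_app hI ⟨v, by rw [map_mul, hu, hv, hrr]⟩
    refine ⟨W, u • t₀, s₀, hxW, UfdExtend.isGen_unit_smul ht₀ hunit, hs₀, ?_⟩
    rw [eta_smul]
    exact hr.symm.trans (congrArg (· • eta i L W t₀) hu.symm)
  choose W t s hxW ht hs hts using hloc
  choose cs hcs using fun a b : X =>
    ((hs b).res (inf_le_right : W a ⊓ W b ≤ W b) _ le_rfl).2 (res M (inf_le_left : W a ⊓ W b ≤ W a) (s a))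
  choose ct hct using fun a b : X =>
    ((ht b).res (inf_le_right : W a ⊓ W b ≤ W b) _ le_rfl).2 (res L (inf_le_left : W a ⊓ W b ≤ W a) (t a))
  simp only [Groth.Agent.QC.res_self] at hcs hct
  have hcsO : ∀ (a b : X) (O : X.Opens) (ha : O ≤ W a) (hb : O ≤ W b),
      resO X (le_inf ha hb) (cs a b) • res M hb (s b) = res M ha (s a) := fun a b O ha hb => by
    have h := congrArg (res M (le_inf ha hb)) (hcs a b)
    rwa [res_smul, res_res, res_res] at h
  have hctO : ∀ (a b : X) (O : X.Opens) (ha : O ≤ W a) (hb : O ≤ W b),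
      resO X (le_inf ha hb) (ct a b) • res L hb (t b) = res L ha (t a) := fun a b O ha hb => by
    have h := congrArg (res L (le_inf ha hb)) (hct a b)
    rwa [res_smul, res_res, res_res] at h
  have hctcoc : ∀ (a b c : X) (O : X.Opens) (ha : O ≤ W a) (hb : O ≤ W b) (hc : O ≤ W c),
      resO X (le_inf ha hb) (ct a b) * resO X (le_inf hb hc) (ct b c) = resO X (le_inf ha hc) (ct a c) :=
    fun a b c O ha hb hc => by
      refine ((ht c).res hc O le_rfl).1 ?_
      simp only [Groth.Agent.QC.res_self]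
      rw [mul_smul, hctO b c O hb hc, hctO a b O ha hb, hctO a c O ha hc]
  have hcscoc : ∀ (a b c : X) (O : X.Opens) (ha : O ≤ W a) (hb : O ≤ W b) (hc : O ≤ W c),
      resO X (le_inf ha hb) (cs a b) * resO X (le_inf hb hc) (cs b c) = resO X (le_inf ha hc) (cs a c) :=
    fun a b c O ha hb hc => by
      refine ((hs c).res hc O le_rfl).1 ?_
      simp only [Groth.Agent.QC.res_self]
      rw [mul_smul, hcsO b c O hb hc, hcsO a b O ha hb, hcsO a c O ha hc]
  have hunit : ∀ a b : X, IsUnit (ct a b) := fun a b => by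
    refine IsUnit.of_mul_eq_one (resO X (le_inf inf_le_right inf_le_left) (ct b a)) ?_
    refine ((ht a).res (inf_le_left : W a ⊓ W b ≤ W a) _ le_rfl).1 ?_
    simp only [Groth.Agent.QC.res_self, one_smul]
    rw [mul_smul, hctO b a _ inf_le_right inf_le_left]
    exact hct a b
  -- congruence
  have hcongr : ∀ a b, i.app (W a ⊓ W b) (cs a b) = i.app (W a ⊓ W b) (ct a b) := fun a b => by
    have hs' := congrArg (fun z => φ.hom.app (i ⁻¹ᵁ (W a ⊓ W b)) (eta i M (W a ⊓ W b) z)) (hcs a b)
    have ht' := congrArg (eta i L (W a ⊓ W b)) (hct a b)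
    simp only [eta_smul, Scheme.Modules.Hom.app_smul, ← eta_res i M inf_le_left, ← eta_res i M inf_le_right,
      ] at hs'
    rw [← app_res φ.hom (i.preimage_mono (inf_le_left : W a ⊓ W b ≤ W a)) (eta i M (W a) (s a)),
      ← app_res φ.hom (i.preimage_mono (inf_le_right : W a ⊓ W b ≤ W b)) (eta i M (W b) (s b)), hts, hts] at hs'
    simp only [eta_smul, ← eta_res i L inf_le_left, ← eta_res i L inf_le_right] at ht'
    refine ((C1Cap.isGen_eta i (ht b)).res (i.preimage_mono inf_le_right) _ le_rfl).1 ?_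
    simp only [Groth.Agent.QC.res_self]
    exact hs'.trans ht'.symm
  -- the additive cocycle
  let G : CohTop.Ab X.toTopCat := Coh.toAb (ClSub.idealMod I)
  let jI : ∀ U : X.Opens, ZarPicLib.sec G U →+ Γ(X, U) := fun U => ((ClSub.idealModι I).app U).hom
  have hj : ∀ U : X.Opens, Function.Injective (jI U) := fun U => Groth.Agent.QC.app_injective_of_mono _ U
  have hj0 : ∀ (U : X.Opens) (z : ZarPicLib.sec G U), i.app U (jI U z) = 0 := fun U z =>
    (Groth.Agent.QC.mem_range_idealModι I U _).1 ⟨z, rfl⟩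
  have hjr : ∀ {U V : X.Opens} (h : V ≤ U) (z : ZarPicLib.sec G U), jI V (ZarPicLib.rr G h z) = resO X h (jI U z) :=
    fun h z => (app_res (ClSub.idealModι I) h z).symm
  choose g hg using fun a b : X => (Groth.Agent.QC.mem_range_idealModι I (W a ⊓ W b)
    ((cs a b - ct a b) * ((hunit a b).unit⁻¹ : Γ(X, W a ⊓ W b)ˣ).1)).2 (by
      rw [map_mul, map_sub]
      change (i.app _ (cs a b) - i.app _ (ct a b)) * _ = 0
      rw [hcongr, sub_self, zero_mul])
  have hg' : ∀ a b, cs a b = ct a b * (1 + jI _ (g a b)) := fun a b => by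
    have e : ((hunit a b).unit⁻¹ : Γ(X, W a ⊓ W b)ˣ).1 * ct a b = 1 := IsUnit.val_inv_mul _
    have hgab : jI _ (g a b) = (cs a b - ct a b) * ((hunit a b).unit⁻¹ : Γ(X, W a ⊓ W b)ˣ).1 := hg a b
    rw [hgab]
    linear_combination -(cs a b - ct a b) * e
  obtain ⟨w, hw⟩ := ZarPicLib.exists_coboundary G h1 W (fun x => ⟨x, hxW x⟩) g (fun a b c O ha hb hc => by
    apply hj
    rw [map_add, hjr, hjr, hjr]
    have hz : resO X (le_inf ha hb) (jI _ (g a b)) * resO X (le_inf hb hc) (jI _ (g b c)) = 0 := by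
      rw [← hjr, ← hjr]; exact mul_eq_zero_of_app hI (hj0 _ _) (hj0 _ _)
    have h := hcscoc a b c O ha hb hc
    simp only [hg', map_mul, map_add, map_one, ← hctcoc a b c O ha hb hc] at h
    have hu : IsUnit (resO X (le_inf ha hb) (ct a b) * resO X (le_inf hb hc) (ct b c)) :=
      ((hunit a b).map _).mul ((hunit b c).map _)
    refine hu.mul_left_cancel ?_
    linear_combination h - resO X (le_inf ha hb) (ct a b) * resO X (le_inf hb hc) (ct b c) * hz)
  -- the corrected generators
  let s' : ∀ a : X, Γ(M, W a) := fun a => (1 - jI _ (w a)) • s a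
  have hs' : ∀ a, IsGen (s' a) := fun a => UfdExtend.isGen_unit_smul (hs a) (by
    refine IsUnit.of_mul_eq_one (1 + jI _ (w a)) ?_
    linear_combination -(mul_eq_zero_of_app hI (hj0 _ (w a)) (hj0 _ (w a))))
  exact ⟨GenIso.GenPair.iso
    { U := W
      cover := fun x => ⟨x, hxW x⟩
      e := s'
      f := t
      he := hs'
      hf := ht
      hc := fun a b => ⟨resO X (le_inf inf_le_right inf_le_left) (ct b a), by
        have h := hcsO b a (W a ⊓ W b) inf_le_right inf_le_left
        change res M _ ((1 - jI _ (w b)) • s b) = _ • res M _ ((1 - jI _ (w a)) • s a)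
        rw [res_smul, res_smul, ← h, smul_smul, smul_smul]
        congr 1
        rw [hg', map_mul, map_add, map_one, hw b a, map_sub (jI (W b ⊓ W a)), hjr, hjr, map_sub, map_sub, map_sub, map_one, map_one,
          resO_resO, resO_resO]
        have p : ∀ (u' v' : X) (hu' : W a ⊓ W b ≤ W u') (hv' : W a ⊓ W b ≤ W v'),
            resO X hu' (jI _ (w u')) * resO X hv' (jI _ (w v')) = 0 := fun u' v' hu' hv' => by
          rw [← hjr, ← hjr]; exact mul_eq_zero_of_app hI (hj0 _ _) (hj0 _ _)
        linear_combination (resO X (le_inf (inf_le_right : W a ⊓ W b ≤ W b) inf_le_left) (ct b a)) * (p b a inf_le_right inf_le_left) - (resO X (le_inf (inf_le_right : W a ⊓ W b ≤ W b) inf_le_left) (ct b a)) * (p b b inf_le_right inf_le_right),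
        (hctO b a (W a ⊓ W b) inf_le_right inf_le_left).symm⟩ }⟩

end Groth.Agent.ThickPic
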