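import Groth.Agent.W7Adic.Algebraize
import Groth.Agent.W7Alg.Morph
import Groth.Agent.W7Alg.Subscheme
import Groth.Agent.W7Alg.Clopen
import Groth.Agent.W7Cube.Pic
import Groth.Agent.S2329
import Groth.Agent.TMul.AmpleBasis
import Groth.Agent.TMul.Pullback

/-!
# Algebraization of compatible systems of invertible classes on the thickenings of a projective scheme
-/

set_option autoImplicit false
set_option backward.isDefEq.respectTransparency false
set_option backward.isDefEq.respectTransparency.types false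
set_option linter.style.haveILetI false
set_option maxHeartbeats 1000000

universe u

open CategoryTheory CategoryTheory.Limits AlgebraicGeometry TopologicalSpace Opposite
open PicGrp

noncomputable section

namespace Groth.Agent.ThickPic

attribute [local instance] W7Cube.law

theorem pull_pullHom {X Y : Scheme.{u}} (g : X ⟶ Y) (h : PullMul g) : pullHom g h = W7Cube.pull g := rfl

theorem pull_congr {X Y : Scheme.{u}} {g g' : X ⟶ Y} (h : g = g') (c : PicLoc.PicSet Y) :
    W7Cube.pull g c = W7Cube.pull g' c := by subst h; rfl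

variable {A : Type u} [CommRing A] [IsNoetherianRing A] {I : Ideal A} [IsAdicComplete I A]
  {X : Scheme.{u}} (f : X ⟶ Spec (CommRingCat.of A)) [IsProper f]

/-- **a compatible system of invertible classes on the thickenings comes from the scheme** -/
theorem exists_pull_eq {H : X.Modules} (hH : CohB1.IsAmple H)
    (c : ∀ n, PicLoc.PicSet (CohB1.thick f I n))
    (hc : ∀ n, W7Cube.pull (CohB1.thickTrans f I n) (c (n + 1)) = c n) :
    ∃ a : PicLoc.PicSet X, ∀ n, W7Cube.pull (CohB1.thickι f I n) a = c n := by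
  classical
  have hci : ∀ n, IsClosedImmersion (CohB1.thickι f I n) := fun n => by
    haveI : IsClosedImmersion (CohB1.specQuot I n) := IsClosedImmersion.spec_of_surjective _ Ideal.Quotient.mk_surjective
    exact MorphismProperty.pullback_fst _ _ inferInstance
  have hprop : IsProper (CohB1.thickToBase f I 0) := MorphismProperty.pullback_snd _ _ inferInstance
  haveI : CompactSpace X := hH.2.1
  haveI : CompactSpace (CohB1.thick f I 0) :=
    QuasiCompact.compactSpace_of_compactSpace (CohB1.thickι f I 0)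
  haveI := hci 0
  let H₀ := (Scheme.Modules.pullback (CohB1.thickι f I 0)).obj H
  have hH₀ : CohB1.IsAmple H₀ :=
    TMul.isAmple_pullback (CohB1.thickι f I 0) (CohB1.thickι f I 0).isClosedEmbedding.isInducing hH
  haveI := TMul.isSeparated_of_isAmple hH₀
  obtain ⟨L₀, hL₀, hc₀⟩ := exists_eq_cls (c 0)
  obtain ⟨d, -, hd⟩ := S2329.result _ H₀ L₀ hH₀ hL₀
  let a₀ := cls H hH.1
  choose M hM hcM using fun n => exists_eq_cls ((W7Cube.pull (CohB1.thickι f I n) a₀) ^ d * c n)
  have hφ : ∀ n, Nonempty ((Scheme.Modules.pullback (CohB1.thickTrans f I n)).obj (M (n + 1)) ≅ M n) := fun n => by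
    refine (cls_eq_cls_iff (PicLoc.isInvertible_pullback _ (hM (n + 1))) (hM n)).1 ?_
    rw [← W7Cube.pull_cls _ _ (hM (n + 1)), ← hcM, ← hcM, map_mul, map_pow, hc, W7Cube.pull_pull,
      pull_congr (W7Alg.thickTrans_fst I f n)]
  have hamp : CohB1.IsAmple (M 0) := by
    obtain ⟨e⟩ : Nonempty (CohB1.tensorMod (CohB1.tensorPow H₀ d) L₀ ≅ M 0) := by
      refine (cl_eq_cl_iff _ _).1 ?_
      have h := congrArg Subtype.val (hcM 0)
      rw [hc₀, W7Cube.pull_cls, mul_val, cls_pow_val, cls_val, mulCl_cl] at h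
      exact h
    exact TMul.isAmple_congr e (hd d le_rfl).1
  let T : W7Adic.Tower I :=
    { X := fun n => CohB1.thick f I n
      p := fun n => CohB1.thickToBase f I n
      i := fun n => CohB1.thickTrans f I n
      cart := fun n => W7Alg.isPullback_thickTrans I f n }
  obtain ⟨Y, g, N, e, hg, hN, -, he, hei, heN⟩ :=
    W7Adic.exists_algebraization T (L := M) hprop hM hφ hamp
  let α : ∀ n, CohB1.thick f I n ≅ CohB1.thick g I n := fun n => (he n).isoPullback
  have hα₁ : ∀ n, (α n).hom ≫ CohB1.thickι g I n = e n := fun n => (he n).isoPullback_hom_fst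
  have hα₂ : ∀ n, (α n).hom ≫ CohB1.thickToBase g I n = CohB1.thickToBase f I n := fun n => (he n).isoPullback_hom_snd
  obtain ⟨φ, hφf, hφn⟩ := W7Alg.exists_algebraization_hom I g f (fun n => (α n).inv)
    (fun n => by rw [Iso.inv_comp_eq, hα₂]) (fun n => by
      rw [Iso.eq_inv_comp, ← Category.assoc, Iso.comp_inv_eq]
      apply pullback.hom_ext
      · change (_ ≫ CohB1.thickTrans g I n) ≫ CohB1.thickι g I (n + 1) = (CohB1.thickTrans f I n ≫ _) ≫ CohB1.thickι g I (n + 1)
        rw [Category.assoc, W7Alg.thickTrans_fst, Category.assoc, hα₁, hα₁]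
        exact hei n
      · change (_ ≫ CohB1.thickTrans g I n) ≫ CohB1.thickToBase g I (n + 1) = (CohB1.thickTrans f I n ≫ _) ≫ CohB1.thickToBase g I (n + 1)
        rw [Category.assoc, W7Alg.thickTrans_snd, ← Category.assoc, hα₂, Category.assoc, hα₂, W7Alg.thickTrans_snd])
  haveI : IsProper φ := by
    haveI : IsProper (φ ≫ f) := by rw [hφf]; exact hg
    exact IsProper.of_comp φ f
  have heφ : ∀ n, e n ≫ φ = CohB1.thickι f I n := fun n => by
    rw [← hα₁, Category.assoc, hφn, Iso.hom_inv_id_assoc]
  haveI : IsIso φ := W7Alg.isIso_of_thick I φ f e fun n => by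
    refine IsPullback.of_bot ?_ ((heφ n).trans (Category.id_comp _).symm) (IsPullback.of_hasPullback f (CohB1.specQuot I n))
    rw [hφf, Category.id_comp]
    exact he n
  refine ⟨W7Cube.pull (inv φ) (cls N hN) * (a₀ ^ d)⁻¹, fun n => ?_⟩
  have hn : CohB1.thickι f I n ≫ inv φ = e n := by rw [IsIso.comp_inv_eq, heφ]
  obtain ⟨i⟩ := heN n
  rw [map_mul, map_inv, map_pow, W7Cube.pull_pull, pull_congr hn, W7Cube.pull_cls,
    (cls_eq_cls_iff (PicLoc.isInvertible_pullback _ hN) (hM n)).2 ⟨i⟩, ← hcM]
  exact mul_inv_cancel_comm _ _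

end Groth.Agent.ThickPic
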