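import Groth.Agent.ThickPic.Basic
import Groth.Agent.ThickPic.UnitsKer
import Groth.Agent.W7Cube.Pic

/-!
# Invertible modules lift along square-zero thickenings when `H²(I) = 0`
-/

set_option autoImplicit false
set_option backward.isDefEq.respectTransparency false
set_option backward.isDefEq.respectTransparency.types false
set_option linter.style.haveILetI false
set_option maxHeartbeats 1000000

universe u

open CategoryTheory CategoryTheory.Limits AlgebraicGeometry TopologicalSpace Opposite
open Groth.Agent.ZarPicLib (sec rr oval oval_add oval_injective app_rr)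
open Groth.Agent.QC (resO app_res)

noncomputable section

namespace Groth.Agent.ThickPic

variable {X : Scheme.{u}} {I : X.IdealSheafData}

theorem surjective_subschemeι (hI : I * I = ⊥) : Surjective I.subschemeι := by
  refine ⟨fun x => ?_⟩
  have h : (I * I).support = ⊤ := by rw [hI]; exact Scheme.IdealSheafData.support_bot
  rw [Scheme.IdealSheafData.support_mul, sup_idem] at h
  have hx : x ∈ Set.range I.subschemeι := by
    rw [Scheme.IdealSheafData.range_subschemeι, h]
    trivial
  exact hx

theorem isHomeomorph_subschemeι (hI : I * I = ⊥) : IsHomeomorph I.subschemeι.base := by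
  haveI := surjective_subschemeι hI
  exact isHomeomorph_iff_isEmbedding_surjective.2
    ⟨I.subschemeι.isClosedEmbedding.isEmbedding, I.subschemeι.surjective⟩

/-- sections of the ideal as functions -/
def valI (I : X.IdealSheafData) (U : X.Opens) : sec (Coh.toAb (ClSub.idealMod I)) U →+ Γ(X, U) :=
  ((ClSub.idealModι I).app U).hom

theorem app_valI (U : X.Opens) (z : sec (Coh.toAb (ClSub.idealMod I)) U) :
    I.subschemeι.app U (valI I U z) = 0 :=
  (Groth.Agent.QC.mem_range_idealModι I U _).1 ⟨z, rfl⟩

/-- `z ↦ 1 + z` as a unit -/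
def onePlusI (hI : I * I = ⊥) (U : X.Opens) (z : sec (Coh.toAb (ClSub.idealMod I)) U) : Γ(X, U)ˣ where
  val := 1 + valI I U z
  inv := 1 - valI I U z
  val_inv := by
    have h := mul_eq_zero_of_app hI (app_valI U z) (app_valI U z)
    linear_combination -h
  inv_val := by
    have h := mul_eq_zero_of_app hI (app_valI U z) (app_valI U z)
    linear_combination -h

/-- `z ↦ 1 + z` -/
def expI (hI : I * I = ⊥) : Coh.toAb (ClSub.idealMod I) ⟶ UnitsSh.unitsAb X :=
  ⟨{ app := fun U => AddCommGrpCat.ofHom
      (show sec (Coh.toAb (ClSub.idealMod I)) U.unop →+ sec (UnitsSh.unitsAb X) U.unop from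
      AddMonoidHom.mk' (fun z => UnitsSh.sectOfUnit (O := X.presheaf) (onePlusI hI U.unop z))
        fun z z' => oval_injective (by
          rw [oval_add]
          change 1 + valI I U.unop (z + z') =
            (1 + valI I U.unop z) * (1 + valI I U.unop z')
          rw [map_add]
          have h := mul_eq_zero_of_app hI (app_valI U.unop z) (app_valI U.unop z')
          linear_combination -h))
     naturality := fun U V g => by
      ext z
      refine oval_injective ?_
      change 1 + valI I V.unop (Groth.Agent.QC.res (ClSub.idealMod I) g.unop.le z) =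
        resO X g.unop.le (1 + valI I U.unop z)
      rw [map_add, map_one]
      exact congrArg (1 + ·) (app_res (ClSub.idealModι I) g.unop.le z).symm }⟩

theorem oval_expI (hI : I * I = ⊥) (U : X.Opens) (z : sec (Coh.toAb (ClSub.idealMod I)) U) :
    oval ((expI hI).hom.app (op U) z) = 1 + valI I U z := rfl

theorem expI_comap (hI : I * I = ⊥) : expI hI ≫ UnitsSh.comap I.subschemeι = 0 := by
  apply Sheaf.hom_ext
  ext U z
  change (UnitsSh.comap I.subschemeι).hom.app (op U.unop) ((expI hI).hom.app (op U.unop) z) = 0
  rw [comap_eq_zero_iff, oval_expI, map_add, map_one,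
    app_valI, add_zero]

theorem isIso_expK (hI : I * I = ⊥) : IsIso (kernel.lift _ (expI hI) (expI_comap hI)) := by
  set K := kernel.lift _ (expI hI) (expI_comap hI) with hK
  have hbij : ∀ U : X.Opens, Function.Bijective (K.hom.app (op U)) := by
    intro U
    have hinj : Function.Injective ((kernel.ι (UnitsSh.comap I.subschemeι)).hom.app (op U)) := by
      haveI : Mono ((sheafToPresheaf _ _).map (kernel.ι (UnitsSh.comap I.subschemeι))) := inferInstance
      exact (AddCommGrpCat.mono_iff_injective _).1 (inferInstanceAs
        (Mono (((sheafToPresheaf _ _).map (kernel.ι (UnitsSh.comap I.subschemeι))).app (op U))))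
    have hcomp : ∀ z, (kernel.ι (UnitsSh.comap I.subschemeι)).hom.app (op U) (K.hom.app (op U) z) =
        (expI hI).hom.app (op U) z := fun z => by
      conv_rhs => rw [← kernel.lift_ι (UnitsSh.comap I.subschemeι) (expI hI) (expI_comap hI)]
      rfl
    refine ⟨fun z z' h => ?_, fun s => ?_⟩
    · have h' := congrArg oval ((hcomp z).symm.trans ((congrArg _ h).trans (hcomp z')))
      rw [oval_expI, oval_expI] at h'
      exact Groth.Agent.QC.app_injective_of_mono (ClSub.idealModι I) U (add_left_cancel h')
    · let s₁ := (kernel.ι (UnitsSh.comap I.subschemeι)).hom.app (op U) s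
      have hs : I.subschemeι.app U (oval s₁) = 1 :=
        (comap_eq_zero_iff I.subschemeι s₁).1 (ZarPicLib.g_f (S := kerSeq I.subschemeι) s)
      obtain ⟨z, hz⟩ := (Groth.Agent.QC.mem_range_idealModι I U (oval s₁ - 1)).2
        (by rw [map_sub, hs, map_one, sub_self])
      refine ⟨z, hinj ((hcomp z).trans (oval_injective ?_))⟩
      rw [oval_expI, show valI I U z = oval s₁ - 1 from hz, add_sub_cancel]
  haveI : IsIso ((sheafToPresheaf _ _).map K) := by
    haveI : ∀ U, IsIso (((sheafToPresheaf _ _).map K).app U) := fun U =>
      (ConcreteCategory.isIso_iff_bijective _).2 (hbij U.unop)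
    exact NatIso.isIso_of_isIso_app _
  exact isIso_of_fully_faithful (sheafToPresheaf _ _) K

attribute [local instance] W7Cube.law

/-- **invertible classes lift along a square-zero thickening when `H²(I) = 0`** -/
theorem exists_lift (hI : I * I = ⊥) (h2 : Subsingleton (Coh.HH X (ClSub.idealMod I) 2))
    (c : PicF.Cl I.subscheme) (hc : PicF.IsInvertibleCl c) :
    ∃ d : PicF.Cl X, PicF.IsInvertibleCl d ∧ PicF.pullCl I.subschemeι d = c := by
  have hnil : ∀ (U : X.Opens), IsAffineOpen U → ∀ z : Γ(X, U), I.subschemeι.app U z = 0 → IsNilpotent z :=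
    fun U _ z hz => ⟨2, by rw [pow_two]; exact mul_eq_zero_of_app hI hz hz⟩
  have hK : Subsingleton (CohTop.H (kernel (UnitsSh.comap I.subschemeι)) 2) := by
    haveI := isIso_expK hI
    haveI : Subsingleton (CohTop.H (Coh.toAb (ClSub.idealMod I)) 2) := h2
    let e := ((Sheaf.functorH (Opens.grothendieckTopology X.toTopCat) 2).mapIso
      (asIso (kernel.lift _ (expI hI) (expI_comap hI)))).addCommGroupIsoToAddEquiv
    exact @Function.Surjective.subsingleton _ _ _ h2 e.surjective
  obtain ⟨d, hd⟩ := pullHom_surjective I.subschemeι (isHomeomorph_subschemeι hI) hnil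
    (W7Cube.pullMul I.subschemeι) hK ⟨c, hc⟩
  exact ⟨d.1, d.2, congrArg Subtype.val hd⟩

end Groth.Agent.ThickPic
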